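import Groth.Agent.LefGeo.Linear
import Mathlib.Algebra.MvPolynomial.PDeriv
import Mathlib.RingTheory.MvPolynomial.EulerIdentity
import Mathlib.LinearAlgebra.Dual.Lemmas

/-!
# Singular hypersurfaces through a linear subspace
-/

universe u

namespace Groth.Agent.LefGeo

open MvPolynomial Matrix

variable {k : Type u} [Field k] {n d : ℕ}

/-- The linear form with coefficients `w`. -/
noncomputable def linForm (w : Fin (n + 1) → k) : MvPolynomial (Fin (n + 1)) k := ∑ i, C (w i) * X i

theorem eval_linForm (w v : Fin (n + 1) → k) : eval v (linForm w) = dotProduct w v := by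
  simp [linForm, dotProduct]

theorem pderiv_linForm (w : Fin (n + 1) → k) (j : Fin (n + 1)) : pderiv j (linForm w) = C (w j) := by
  classical
  simp [linForm, pderiv_X, Pi.single_apply]

theorem linForm_isHomogeneous (w : Fin (n + 1) → k) : (linForm w).IsHomogeneous 1 :=
  IsHomogeneous.sum _ _ _ fun i _ => isHomogeneous_C_mul_X _ _

/-- Value and derivatives of a form at `v`. -/
noncomputable def jet (v : Fin (n + 1) → k) :
    LefPen.Form n k d →ₗ[k] (Option (Fin (n + 1)) → k) :=
  LinearMap.pi fun o => (aeval v).toLinearMap ∘ₗ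
    (o.elim LinearMap.id fun j => (pderiv j : Derivation k (MvPolynomial (Fin (n + 1)) k) _).toLinearMap) ∘ₗ
      (CohB1.polyGrading n k d).subtype

theorem jet_none (v : Fin (n + 1) → k) (G : LefPen.Form n k d) : jet v G none = eval v G.1 := by
  simp [jet, MvPolynomial.aeval_eq_eval]

theorem jet_some (v : Fin (n + 1) → k) (G : LefPen.Form n k d) (j : Fin (n + 1)) :
    jet v G (some j) = eval v (pderiv j G.1) := by
  simp [jet, MvPolynomial.aeval_eq_eval]

/-- The vector `(0, w)`. -/
def gradVec : (Fin (n + 1) → k) →ₗ[k] (Option (Fin (n + 1)) → k) :=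
  LinearMap.pi fun o => o.elim 0 fun j => LinearMap.proj j

theorem gradVec_injective : Function.Injective (gradVec (k := k) (n := n)) := fun a b h =>
  funext fun j => by simpa [gradVec] using congrFun h (some j)

variable {m : ℕ} (b : Fin m → Fin (n + 1) → k) (W : Submodule k (LefPen.Form n k d))

/-- At a point of the subspace the normal derivatives are arbitrary. -/
theorem le_finrank_jet_of_mem (hd : 1 ≤ d)
    (hW : ∀ G : LefPen.Form n k d, (∀ u ∈ Submodule.span k (Set.range b), eval u G.1 = 0) → G ∈ W)
    {v : Fin (n + 1) → k} (hv0 : v ≠ 0) (hv : v ∈ Submodule.span k (Set.range b)) :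
    n + 1 - m ≤ Module.finrank k ↥(W.map (jet v)) := by
  let A : Matrix (Fin m) (Fin (n + 1)) k := Matrix.of b
  have h1 : n + 1 - m ≤ Module.finrank k ↥(LinearMap.ker A.mulVecLin) := by
    have := LinearMap.finrank_range_add_finrank_ker A.mulVecLin
    have h2 := (LinearMap.range A.mulVecLin).finrank_le
    simp only [Module.finrank_fin_fun] at this h2
    omega
  obtain ⟨i, hi⟩ := Function.ne_iff.1 hv0
  let ψ : MvPolynomial (Fin (n + 1)) k := C (v i)⁻¹ * X i
  have hψ : eval v ψ = 1 := by simp only [ψ, map_mul, eval_C, eval_X]; exact inv_mul_cancel₀ hi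
  refine h1.trans ?_
  refine le_trans (le_of_eq (LinearEquiv.finrank_eq (Submodule.equivMapOfInjective gradVec
    gradVec_injective (LinearMap.ker A.mulVecLin)))) (Submodule.finrank_mono ?_)
  rintro _ ⟨w, hw, rfl⟩
  rw [SetLike.mem_coe, LinearMap.mem_ker] at hw
  have hzero : ∀ u ∈ Submodule.span k (Set.range b), dotProduct w u = 0 := by
    intro u hu
    induction hu using Submodule.span_induction with
    | mem x hx =>
      obtain ⟨a, rfl⟩ := hx
      rw [dotProduct_comm]
      exact congrFun hw a
    | zero => simp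
    | add x y _ _ hx hy => rw [dotProduct_add, hx, hy, add_zero]
    | smul c x _ hx => rw [dotProduct_smul, hx, smul_zero]
  have hom : (linForm w * ψ ^ (d - 1)).IsHomogeneous d := by
    have := (linForm_isHomogeneous w).mul ((isHomogeneous_C_mul_X (v i)⁻¹ i).pow (d - 1))
    rwa [show 1 + 1 * (d - 1) = d by omega] at this
  let G : LefPen.Form n k d := ⟨linForm w * ψ ^ (d - 1), (mem_homogeneousSubmodule d _).2 hom⟩
  refine ⟨G, hW G fun u hu => by simp [G, eval_linForm, hzero u hu], ?_⟩
  funext o
  cases o with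
  | none => simp [jet_none, gradVec, G, eval_linForm, hzero v hv]
  | some j =>
    rw [jet_some]
    simp [gradVec, G, Derivation.leibniz, eval_linForm, hzero v hv, pderiv_linForm, hψ]

/-- Off the subspace value and derivatives are as arbitrary as Euler's relation allows. -/
theorem le_finrank_jet_of_notMem (hd : 2 ≤ d)
    (hW : ∀ G : LefPen.Form n k d, (∀ u ∈ Submodule.span k (Set.range b), eval u G.1 = 0) → G ∈ W)
    {v : Fin (n + 1) → k} (hv : v ∉ Submodule.span k (Set.range b)) :
    n + 1 ≤ Module.finrank k ↥(W.map (jet v)) := by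
  classical
  obtain ⟨φ', hφv, hφU⟩ := Submodule.exists_dual_map_eq_bot_of_notMem hv inferInstance
  let φ : Fin (n + 1) → k := fun i => (φ' v)⁻¹ * φ' (Pi.single i 1)
  have hφ : ∀ u, dotProduct φ u = (φ' v)⁻¹ * φ' u := fun u => by
    conv_rhs => rw [pi_eq_sum_univ' u]
    simp [dotProduct, φ, map_sum, Finset.mul_sum, mul_assoc, mul_comm (u _)]
  have hφ1 : dotProduct φ v = 1 := by rw [hφ]; exact inv_mul_cancel₀ hφv
  have hφ0 : ∀ u ∈ Submodule.span k (Set.range b), dotProduct φ u = 0 := fun u hu => by
    rw [hφ]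
    have : φ' u ∈ (Submodule.span k (Set.range b)).map φ' := Submodule.mem_map_of_mem hu
    rw [hφU, Submodule.mem_bot] at this
    rw [this, mul_zero]
  let Hv : Submodule k (Fin (n + 1) → k) := LinearMap.ker (Matrix.of ![v]).mulVecLin
  have hH : n ≤ Module.finrank k ↥Hv := by
    have := LinearMap.finrank_range_add_finrank_ker (Matrix.of ![v]).mulVecLin
    have h2 := (LinearMap.range (Matrix.of ![v]).mulVecLin).finrank_le
    simp only [Module.finrank_fin_fun] at this h2
    change n ≤ Module.finrank k ↥(LinearMap.ker (Matrix.of ![v]).mulVecLin)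
    omega
  have homd : ∀ (w : Fin (n + 1) → k), (linForm φ ^ (d - 1) * linForm w).IsHomogeneous d := fun w => by
    have := ((linForm_isHomogeneous φ).pow (d - 1)).mul (linForm_isHomogeneous w)
    rwa [show 1 * (d - 1) + 1 = d by omega] at this
  let G : (Fin (n + 1) → k) → LefPen.Form n k d :=
    fun w => ⟨linForm φ ^ (d - 1) * linForm w, (mem_homogeneousSubmodule d _).2 (homd w)⟩
  have hGW : ∀ w, G w ∈ W := fun w => hW _ fun u hu => by
    simp [G, eval_linForm, hφ0 u hu, zero_pow (show d - 1 ≠ 0 by omega)]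
  let T : Submodule k (Option (Fin (n + 1)) → k) := Hv.map gradVec
  have hT : T ≤ W.map (jet v) := by
    rintro _ ⟨w, hw, rfl⟩
    rw [SetLike.mem_coe, LinearMap.mem_ker] at hw
    have hwv : dotProduct w v = 0 := by
      rw [dotProduct_comm]; exact congrFun hw 0
    refine ⟨G w, hGW w, funext fun o => ?_⟩
    cases o with
    | none => simp [jet_none, gradVec, G, eval_linForm, hwv]
    | some j =>
      rw [jet_some]
      simp [gradVec, G, Derivation.leibniz, eval_linForm, hwv, pderiv_linForm, hφ1]
  have hlt : T < W.map (jet v) := lt_of_le_not_ge hT fun hge => by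
    obtain ⟨w, -, hw⟩ := hge (Submodule.mem_map_of_mem (hGW φ))
    have := congrFun hw none
    simp [jet_none, gradVec, G, eval_linForm, hφ1] at this
  have := Submodule.finrank_lt_finrank_of_lt hlt
  have hTd : Module.finrank k ↥T = Module.finrank k ↥Hv :=
    (LinearEquiv.finrank_eq (Submodule.equivMapOfInjective gradVec gradVec_injective Hv)).symm
  omega

theorem eval_smul_of_isHomogeneous {N : ℕ} {P : MvPolynomial (Fin N) k} (hP : P.IsHomogeneous d)
    (c : k) (v : Fin N → k) : eval (c • v) P = c ^ d * eval v P := by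
  simp only [eval_eq, Pi.smul_apply, smul_eq_mul, Finset.mul_sum]
  refine Finset.sum_congr rfl fun e he => ?_
  have hd' : ∑ i ∈ e.support, e i = d := by
    rw [← hP (mem_support_iff.1 he), Finsupp.weight_apply, Finsupp.sum]
    simp
  simp only [mul_pow, Finset.prod_mul_distrib, Finset.prod_pow_eq_pow_sum, hd']
  ring

theorem pderiv_mem_homogeneous (G : LefPen.Form n k d) (j : Fin (n + 1)) :
    (pderiv j G.1).IsHomogeneous (d - 1) :=
  MvPolynomial.IsHomogeneous.pderiv G.2

variable {ι σ : Type*} [Fintype ι] [Fintype σ] (bW : Module.Basis ι k ↥W)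
  (pt : Fin (n + 1) → MvPolynomial σ k)

/-- The conditions on a member of `W` to be singular at `pt z`, polynomial in `z`. -/
noncomputable def jetMatrix : Matrix (Option (Fin (n + 1))) ι (MvPolynomial σ k) := fun o i =>
  aeval pt (o.elim (bW i).1.1 fun j => pderiv j (bW i).1.1)

theorem jetMatrix_mulVec (z : σ → k) (G : ↥W) :
    ((jetMatrix W bW pt).map (eval z)).mulVec (bW.repr G) = jet (fun j => eval z (pt j)) G.1 := by
  set v := fun j => eval z (pt j) with hv
  let φ : ↥W →ₗ[k] (Option (Fin (n + 1)) → k) := (jet v).comp W.subtype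
  have hent : ∀ o i, eval z (jetMatrix W bW pt o i) = φ (bW i) o := fun o i => by
    cases o with
    | none => rw [jetMatrix, eval_aeval']; exact (jet_none v (bW i).1).symm
    | some j => rw [jetMatrix, eval_aeval']; exact (jet_some v (bW i).1 j).symm
  have hG : φ G = ∑ i, bW.repr G i • φ (bW i) := by
    conv_lhs => rw [← bW.sum_repr G]
    simp only [map_sum, map_smul]
  refine Eq.trans ?_ hG.symm
  funext o
  simp only [Finset.sum_apply, Pi.smul_apply, Matrix.mulVec, dotProduct, Matrix.map_apply, smul_eq_mul,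
    hent]
  exact Finset.sum_congr rfl fun i _ => mul_comm _ _

theorem jetMatrix_rank (z : σ → k) :
    Module.finrank k ↥(W.map (jet fun j => eval z (pt j))) ≤ ((jetMatrix W bW pt).map (eval z)).rank := by
  refine Submodule.finrank_mono ?_
  rintro _ ⟨G, hG, rfl⟩
  exact ⟨bW.repr ⟨G, hG⟩, jetMatrix_mulVec W bW pt z ⟨G, hG⟩⟩

end Groth.Agent.LefGeo
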