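import Mathlib.RingTheory.Nullstellensatz
import Mathlib.RingTheory.Valuation.LocalSubring
import Mathlib.RingTheory.Localization.FractionRing
import Mathlib.RingTheory.LocalRing.ResidueField.Basic

/-!
# Projective elimination by valuations
-/

universe u

namespace Groth.Agent.LefGeo

open MvPolynomial

variable {k : Type u} [Field k]

/-- A system with a solution over some extension has one over an algebraically closed field. -/
theorem exists_k_point [IsAlgClosed k] {σ : Type*} [Finite σ] (J : Ideal (MvPolynomial σ k))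
    {κ : Type*} [Field κ] [Algebra k κ] (z : σ → κ) (h : ∀ P ∈ J, aeval z P = 0) :
    ∃ a : σ → k, ∀ P ∈ J, eval a P = 0 := by
  have hJ : J ≠ ⊤ := fun hJ => by
    have := h 1 (hJ ▸ Submodule.mem_top)
    simp at this
  obtain ⟨M, hM, hle⟩ := Ideal.exists_le_maximal J hJ
  obtain ⟨a, rfl⟩ := isMaximal_iff_eq_vanishingIdeal_singleton.1 hM
  exact ⟨a, fun P hP => by simpa [MvPolynomial.aeval_eq_eval] using hle hP⟩

/-- A point in the closure of the projection of a closed set lifts to a solution over a valued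
field which specialises to it. -/
theorem exists_lift {ι σ : Type} (J : Ideal (MvPolynomial (ι ⊕ σ) k)) (x : ι → k)
    (hx : ∀ P : MvPolynomial ι k, rename Sum.inl P ∈ J → eval x P = 0) :
    ∃ (K : Type u) (_ : Field K) (_ : Algebra k K) (V : ValuationSubring K) (w : ι ⊕ σ → K)
      (κ : Type u) (_ : Field κ) (_ : Algebra k κ) (res : V →+* κ)
      (hk : ∀ a, algebraMap k K a ∈ V),
      (∀ a, res ⟨_, hk a⟩ = algebraMap k κ a) ∧ (∀ v : V, ¬ IsUnit v → res v = 0) ∧
      (∀ P ∈ J, aeval w P = 0) ∧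
      ∀ i, ∃ h : w (Sum.inl i) ∈ V, res ⟨_, h⟩ = algebraMap k κ (x i) := by
  classical
  let ρ : MvPolynomial ι k →+* MvPolynomial (ι ⊕ σ) k := (rename Sum.inl).toRingHom
  haveI : (RingHom.ker (eval x)).IsPrime := RingHom.ker_isPrime _
  obtain ⟨Q, hJQ, hQ, hQx⟩ := Ideal.exists_ideal_comap_le_prime (f := ρ) (RingHom.ker (eval x)) J
    (fun P hP => hx P hP)
  let R := MvPolynomial (ι ⊕ σ) k ⧸ Q
  let K := FractionRing R
  let θ : MvPolynomial (ι ⊕ σ) k →ₐ[k] K :=
    (IsScalarTower.toAlgHom k R K).comp (Ideal.Quotient.mkₐ k Q)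
  have hθ : ∀ P, θ P = 0 ↔ P ∈ Q := fun P => by
    show algebraMap R K (Ideal.Quotient.mk Q P) = 0 ↔ _
    rw [map_eq_zero_iff _ (IsFractionRing.injective R K), Ideal.Quotient.eq_zero_iff_mem]
  let ψ : MvPolynomial ι k →+* K := θ.toRingHom.comp ρ
  let m : Ideal ψ.range := (RingHom.ker (eval x)).map ψ.rangeRestrict
  haveI : m.IsPrime := Ideal.map_isPrime_of_surjective ψ.rangeRestrict_surjective fun P hP => by
    refine hQx ((hθ _).1 ?_)
    rw [RingHom.mem_ker] at hP
    exact congrArg Subtype.val hP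
  obtain ⟨V, hle, hloc⟩ := LocalSubring.exists_le_valuationSubring (LocalSubring.ofPrime ψ.range m)
  have hAV : ψ.range ≤ V.toSubring := (LocalSubring.le_ofPrime _ _).trans hle
  have hk : ∀ a, algebraMap k K a ∈ V := fun a => hAV ⟨MvPolynomial.C a, by
    show θ (rename Sum.inl (C a)) = _
    rw [rename_C, ← MvPolynomial.algebraMap_eq, θ.commutes]⟩
  let res : V →+* IsLocalRing.ResidueField V := IsLocalRing.residue V
  let ι' : k →+* IsLocalRing.ResidueField V := res.comp ((algebraMap k K).codRestrict V.toSubring hk)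
  letI : Algebra k (IsLocalRing.ResidueField V) := ι'.toAlgebra
  have hres : ∀ P : MvPolynomial ι k, eval x P = 0 → res ⟨ψ P, hAV ⟨P, rfl⟩⟩ = 0 := fun P hP => by
    rw [IsLocalRing.residue_eq_zero_iff, IsLocalRing.mem_maximalIdeal, mem_nonunits_iff]
    intro hu
    have hm : ψ.rangeRestrict P ∈ m := Ideal.mem_map_of_mem _ hP
    have hu' : IsUnit (Subring.inclusion (LocalSubring.le_ofPrime ψ.range m) ⟨ψ P, ⟨P, rfl⟩⟩) :=
      hloc.map_nonunit _ hu
    have := (IsLocalization.AtPrime.isUnit_to_map_iff (LocalSubring.ofPrime ψ.range m).toSubring m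
      (ψ.rangeRestrict P)).1 hu'
    exact this hm
  refine ⟨K, inferInstance, inferInstance, V, fun j => θ (MvPolynomial.X j), IsLocalRing.ResidueField V,
    inferInstance, inferInstance, res, hk, fun a => rfl, fun v hv => ?_, fun P hP => ?_,
    fun i => ⟨hAV ⟨MvPolynomial.X i, ?_⟩, ?_⟩⟩
  · rw [IsLocalRing.residue_eq_zero_iff]; exact hv
  · rw [show aeval (fun j => θ (MvPolynomial.X j)) = θ from (MvPolynomial.algHom_ext fun j => by simp)]
    exact (hθ P).2 (hJQ hP)
  · show θ (rename Sum.inl (X i)) = _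
    rw [rename_X]
  · have := hres (MvPolynomial.X i - MvPolynomial.C (x i)) (by simp)
    rw [← sub_eq_zero, ← this]
    change res _ - res _ = _
    rw [← map_sub]
    congr 1
    refine Subtype.ext ?_
    show θ (X (Sum.inl i)) - algebraMap k K (x i) = θ (rename Sum.inl (X i - C (x i)))
    rw [map_sub, rename_X, rename_C, ← MvPolynomial.algebraMap_eq, map_sub, θ.commutes]

/-- Evaluation through a valuation subring and its residue map. -/
theorem res_aeval {K κ : Type*} [Field K] [Field κ] [Algebra k K] [Algebra k κ] {V : ValuationSubring K}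
    (res : V →+* κ) (hk : ∀ a, algebraMap k K a ∈ V) (hres : ∀ a, res ⟨_, hk a⟩ = algebraMap k κ a)
    {τ : Type*} (w : τ → V) (P : MvPolynomial τ k) (h : aeval (fun j => (w j : K)) P = 0) :
    aeval (fun j => res (w j)) P = 0 := by
  let φ : k →+* V := (algebraMap k K).codRestrict V.toSubring hk
  have h1 : ((eval₂Hom φ w P : V) : K) = aeval (fun j => (w j : K)) P := by
    have := MvPolynomial.eval₂_comp_left (V.subtype) φ w P
    rw [coe_eval₂Hom]
    exact this
  have h2 : res (eval₂Hom φ w P) = aeval (fun j => res (w j)) P := by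
    rw [coe_eval₂Hom, MvPolynomial.eval₂_comp_left res φ w P]
    have : res.comp φ = algebraMap k κ := RingHom.ext hres
    rw [this]; rfl
  rw [← h2, show eval₂Hom φ w P = 0 from Subtype.ext (by rw [h1, h]; rfl), map_zero]

/-- **Elimination theory**: having no non-trivial zero in the variables `σ` is an open condition. -/
theorem exists_poly_no_nontrivial_zero [IsAlgClosed k] {ι σ : Type} [Finite ι] [Fintype σ] {α : Type*}
    (P : α → MvPolynomial (ι ⊕ σ) k)
    (hP : ∀ (K : Type u) [Field K] [Algebra k K] (a : α) (y : ι → K) (z : σ → K) (l : K),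
      aeval (Sum.elim y z) (P a) = 0 → aeval (Sum.elim y (l • z)) (P a) = 0)
    (x : ι → k) (hx : ∀ z : σ → k, z ≠ 0 → ∃ a, eval (Sum.elim x z) (P a) ≠ 0) :
    ∃ Q : MvPolynomial ι k, eval x Q ≠ 0 ∧
      ∀ x' : ι → k, eval x' Q ≠ 0 → ∀ z : σ → k, z ≠ 0 → ∃ a, eval (Sum.elim x' z) (P a) ≠ 0 := by
  classical
  let J : σ → Ideal (MvPolynomial (ι ⊕ σ) k) := fun s =>
    Ideal.span (insert (MvPolynomial.X (Sum.inr s) - 1) (Set.range P))
  by_cases hgood : ∀ s, ∃ Q, rename Sum.inl Q ∈ J s ∧ eval x Q ≠ 0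
  · choose Q hQ hQx using hgood
    refine ⟨∏ s, Q s, by rw [map_prod]; exact Finset.prod_ne_zero_iff.2 fun s _ => hQx s,
      fun x' hx' z hz => ?_⟩
    by_contra hc
    push Not at hc
    obtain ⟨s, hs⟩ := Function.ne_iff.1 hz
    rw [map_prod, Finset.prod_ne_zero_iff] at hx'
    refine hx' s (Finset.mem_univ s) ?_
    have hle : J s ≤ RingHom.ker (eval (Sum.elim x' ((z s)⁻¹ • z))) := by
      refine Ideal.span_le.2 ?_
      rintro Pa (rfl | ⟨a, rfl⟩)
      · simp only [SetLike.mem_coe, RingHom.mem_ker, map_sub, eval_X, map_one, Sum.elim_inr,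
          Pi.smul_apply, smul_eq_mul]
        rw [inv_mul_cancel₀ hs, sub_self]
      · have := hP k a x' z (z s)⁻¹ (by rw [MvPolynomial.aeval_eq_eval]; exact hc a)
        rwa [MvPolynomial.aeval_eq_eval] at this
    have := hle (hQ s)
    rw [RingHom.mem_ker, eval_rename] at this
    exact this
  push Not at hgood
  obtain ⟨s, hs⟩ := hgood
  exfalso
  obtain ⟨K, _, _, V, w, κ, _, _, res, hk, hres, -, hJ, hw⟩ := exists_lift (J s) x hs
  let z : σ → K := fun t => w (Sum.inr t)
  have hw' : w = Sum.elim (fun i => w (Sum.inl i)) z := funext fun j => by cases j <;> rfl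
  have hzs : z s = 1 := by
    have := hJ _ (Ideal.subset_span (Set.mem_insert _ _))
    simpa [sub_eq_zero, z] using this
  obtain ⟨t, -, ht⟩ := Finset.exists_max_image Finset.univ (fun t => V.valuation (z t)) ⟨s, Finset.mem_univ s⟩
  have hzt : z t ≠ 0 := fun h0 => by
    have := ht s (Finset.mem_univ s)
    rw [h0, map_zero, hzs, map_one] at this
    exact absurd this (not_le.2 zero_lt_one)
  have hmem : ∀ j, (z t)⁻¹ * z j ∈ V := fun j => by
    rw [← ValuationSubring.valuation_le_one_iff, map_mul, map_inv₀, inv_mul_le_one₀]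
    · exact ht j (Finset.mem_univ j)
    · exact (Valuation.pos_iff _).2 hzt
  choose hwV hwres using hw
  let v : ι ⊕ σ → V := Sum.elim (fun i => ⟨_, hwV i⟩) (fun j => ⟨_, hmem j⟩)
  have hzero : ∀ a, aeval (Sum.elim (fun i => algebraMap k κ (x i)) fun j => res ⟨_, hmem j⟩) (P a) = 0 := by
    intro a
    have h0 : aeval (fun j => (v j : K)) (P a) = 0 := by
      have h1 := hJ _ (Ideal.subset_span (Set.mem_insert_of_mem _ ⟨a, rfl⟩))
      rw [hw'] at h1
      have h2 := hP K a _ _ (z t)⁻¹ h1
      refine (congrArg (fun g => aeval g (P a)) ?_).trans h2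
      funext j; cases j <;> rfl
    refine (congrArg (fun g => aeval g (P a)) ?_).trans (res_aeval res hk hres v (P a) h0)
    funext j; cases j with
    | inl i => exact (hwres i).symm
    | inr j => rfl
  -- descend to the ground field
  let sub : MvPolynomial (ι ⊕ σ) k →ₐ[k] MvPolynomial σ k :=
    aeval (Sum.elim (fun i => MvPolynomial.C (x i)) MvPolynomial.X)
  let J' : Ideal (MvPolynomial σ k) :=
    Ideal.span (insert (MvPolynomial.X t - 1) (Set.range fun a => sub (P a)))
  obtain ⟨a, ha⟩ := exists_k_point J' (fun j => res ⟨_, hmem j⟩) (fun Pa hPa => by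
    have hle : J' ≤ RingHom.ker (aeval fun j => res ⟨_, hmem j⟩) := by
      refine Ideal.span_le.2 ?_
      rintro Pb (rfl | ⟨b, rfl⟩)
      · simp only [SetLike.mem_coe, RingHom.mem_ker, map_sub, aeval_X, map_one, sub_eq_zero]
        rw [← map_one res]
        exact congrArg res (Subtype.ext (inv_mul_cancel₀ hzt))
      · simp only [SetLike.mem_coe, RingHom.mem_ker, sub, ← AlgHom.comp_apply, MvPolynomial.comp_aeval]
        refine (congrArg (fun g => aeval g (P b)) ?_).trans (hzero b)
        funext j; cases j <;> simp [MvPolynomial.algebraMap_eq]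
    exact hle hPa)
  obtain ⟨b, hb⟩ := hx a (fun h0 => by
    have := ha _ (Ideal.subset_span (Set.mem_insert _ _))
    simp [h0] at this)
  refine hb ?_
  have := ha _ (Ideal.subset_span (Set.mem_insert_of_mem _ ⟨b, rfl⟩))
  rw [← this, ← MvPolynomial.aeval_eq_eval, ← MvPolynomial.aeval_eq_eval]
  simp only [sub, ← AlgHom.comp_apply, MvPolynomial.comp_aeval]
  refine congrArg (fun g => aeval g (P b)) ?_
  funext j; cases j <;> simp

end Groth.Agent.LefGeo
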