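import Mathlib.Algebra.MvPolynomial.PDeriv
import Mathlib.LinearAlgebra.Dual.Lemmas
import Mathlib.RingTheory.Nakayama
import Mathlib.RingTheory.Ideal.MinimalPrime.Noetherian
import Mathlib.RingTheory.Polynomial.Basic

/-!
# Solutions with injective Jacobian are finite in number
-/

universe u

namespace Groth.Agent.LefGeo

open MvPolynomial

variable {k : Type u} [Field k] {σ : Type*} [Fintype σ] {α : Type*}

/-- The maximal ideal of a point. -/
noncomputable def pointIdeal (a : σ → k) : Ideal (MvPolynomial σ k) := RingHom.ker (eval a)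

theorem pointIdeal_isPrime (a : σ → k) : (pointIdeal a).IsPrime := RingHom.ker_isPrime _

theorem X_sub_C_mem (a : σ → k) (s : σ) : X s - C (a s) ∈ pointIdeal a := by
  simp [pointIdeal, RingHom.mem_ker]

/-- Taylor's formula to first order. -/
theorem taylor (a : σ → k) (Q : MvPolynomial σ k) :
    Q - C (eval a Q) - ∑ s, C (eval a (pderiv s Q)) * (X s - C (a s)) ∈ pointIdeal a ^ 2 := by
  classical
  induction Q using MvPolynomial.induction_on with
  | C c => simp
  | add p q hp hq =>
    convert Ideal.add_mem _ hp hq using 1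
    simp only [map_add, add_mul, Finset.sum_add_distrib]
    ring
  | mul_X p j hp =>
    set L := ∑ s, C (eval a (pderiv s p)) * (X s - C (a s)) with hL
    have hLm : L ∈ pointIdeal a := sum_mem fun s _ => Ideal.mul_mem_left _ _ (X_sub_C_mem a s)
    have h2 : L * (X j - C (a j)) ∈ pointIdeal a ^ 2 := by
      rw [pow_two]; exact Ideal.mul_mem_mul hLm (X_sub_C_mem a j)
    convert Ideal.add_mem _ (Ideal.mul_mem_right (X j) _ hp) h2 using 1
    have hsum : ∑ s, C (eval a (pderiv s (p * X j))) * (X s - C (a s)) =
        L * C (a j) + C (eval a p) * (X j - C (a j)) := by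
      simp only [Derivation.leibniz, pderiv_X, Pi.single_apply, smul_eq_mul, map_add, map_mul,
        eval_X, apply_ite (eval a), map_one, map_zero, add_mul, Finset.sum_add_distrib, hL,
        Finset.sum_mul, apply_ite C]
      rw [add_comm]
      congr 1
      · exact Finset.sum_congr rfl fun s _ => by ring
      · simp [mul_ite, ite_mul]
    rw [hsum, map_mul, eval_X, map_mul]
    ring

/-- If at every common zero of the `P e` the differentials span, there are finitely many zeros. -/
theorem finite_of_injective_jacobian (P : α → MvPolynomial σ k)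
    (h : ∀ a, (∀ e, eval a (P e) = 0) → ∀ x : σ → k,
      (∀ e, ∑ s, x s * eval a (pderiv s (P e)) = 0) → x = 0) :
    {a : σ → k | ∀ e, eval a (P e) = 0}.Finite := by
  classical
  set I := Ideal.span (Set.range P) with hI
  have key : ∀ a, (∀ e, eval a (P e) = 0) → pointIdeal a ∈ I.minimalPrimes := by
    intro a ha
    set M := pointIdeal a
    have hIM : I ≤ M := Ideal.span_le.2 (by rintro _ ⟨e, rfl⟩; exact ha e)
    let L : (σ → k) →ₗ[k] MvPolynomial σ k := Fintype.linearCombination k fun s => X s - C (a s)
    have hLx : ∀ x, L x = ∑ s, C (x s) * (X s - C (a s)) := fun x => by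
      simp [L, Fintype.linearCombination_apply, smul_eq_C_mul]
    let N : Submodule k (σ → k) := (Submodule.restrictScalars k (I ⊔ M ^ 2)).comap L
    have hgrad : ∀ e, (fun s => eval a (pderiv s (P e))) ∈ N := fun e => by
      show L _ ∈ I ⊔ M ^ 2
      rw [hLx]
      have := taylor a (P e)
      rw [ha e, map_zero, sub_zero] at this
      have h2 := Ideal.sub_mem _ (Ideal.mem_sup_left (Ideal.subset_span ⟨e, rfl⟩) : P e ∈ I ⊔ M ^ 2)
        (Ideal.mem_sup_right this)
      rwa [sub_sub_cancel] at h2
    have hN : N = ⊤ := by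
      by_contra hne
      obtain ⟨v, hv⟩ : ∃ v, v ∉ N := by
        by_contra hc
        push Not at hc
        exact hne (Submodule.eq_top_iff'.2 hc)
      obtain ⟨φ, hφv, hφN⟩ := Submodule.exists_dual_map_eq_bot_of_notMem hv inferInstance
      have hφ : ∀ u, φ u = ∑ s, φ (Pi.single s 1) * u s := fun u => by
        conv_lhs => rw [pi_eq_sum_univ' u]
        simp [map_sum, mul_comm (u _)]
      have := h a ha (fun s => φ (Pi.single s 1)) fun e => by
        rw [← hφ]
        have := Submodule.mem_map_of_mem (f := φ) (hgrad e)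
        rwa [hφN, Submodule.mem_bot] at this
      exact hφv (by rw [hφ, Finset.sum_eq_zero]; exact fun s _ => by rw [congrFun this s]; simp)
    have hle : M ≤ I ⊔ M ^ 2 := fun Q hQ => by
      have hQ0 : eval a Q = 0 := hQ
      have h1 := taylor a Q
      rw [hQ0, map_zero, sub_zero] at h1
      have h2 : L (fun s => eval a (pderiv s Q)) ∈ I ⊔ M ^ 2 :=
        (hN ▸ Submodule.mem_top : (fun s => eval a (pderiv s Q)) ∈ N)
      rw [hLx] at h2
      simpa using Ideal.add_mem _ (Ideal.mem_sup_right h1) h2
    obtain ⟨r, hr1, hr2⟩ := Submodule.exists_sub_one_mem_and_smul_le_of_fg_of_le_sup (I := M)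
      (N := I) (N' := M) (P := M) (IsNoetherian.noetherian M) le_rfl
      (by rwa [smul_eq_mul, ← pow_two])
    refine ⟨⟨pointIdeal_isPrime a, hIM⟩, fun q ⟨hq, hIq⟩ hqM Q hQ => ?_⟩
    have hrM : r ∉ M := fun hr => by
      have : (1 : MvPolynomial σ k) ∈ M := by simpa using M.sub_mem hr hr1
      exact (pointIdeal_isPrime a).ne_top ((Ideal.eq_top_iff_one _).2 this)
    have : r * Q ∈ q := hIq (hr2 (Submodule.smul_mem_pointwise_smul Q r _ hQ))
    exact (hq.mem_or_mem this).resolve_left fun hr => hrM (hqM hr)
  refine Set.Finite.of_injOn (f := pointIdeal) (fun a ha => key a ha) ?_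
    (Ideal.finite_minimalPrimes_of_isNoetherianRing _ I)
  intro a _ b _ hab
  funext s
  have : X s - C (a s) ∈ pointIdeal b := hab ▸ X_sub_C_mem a s
  simp [pointIdeal, RingHom.mem_ker, sub_eq_zero] at this
  exact this.symm

end Groth.Agent.LefGeo
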