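import Mathlib.Algebra.MvPolynomial.Equiv
import Mathlib.Algebra.MvPolynomial.Funext
import Mathlib.Algebra.MvPolynomial.NoZeroDivisors
import Mathlib.Algebra.Polynomial.Roots
import Mathlib.LinearAlgebra.Matrix.Rank
import Mathlib.LinearAlgebra.Matrix.NonsingularInverse
import Mathlib.RingTheory.AlgebraicIndependent.TranscendenceBasis

/-!
# Incidence varieties of linear conditions

`M z` is a system of linear conditions on `x`, polynomial in the parameter `z`.
If its rank exceeds the number of parameters then the generic `x` satisfies none of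
them; if it is at least that number, the generic `x` has finitely many solutions `z`.
-/

universe u

namespace Groth.Agent.LefGeo

open MvPolynomial Matrix

variable {k : Type u} [Field k]

theorem exists_relation {ι τ : Type*} [Fintype ι] [Fintype τ] (f : ι → MvPolynomial τ k)
    (h : Fintype.card τ < Fintype.card ι) : ∃ P : MvPolynomial ι k, P ≠ 0 ∧ aeval f P = 0 := by
  by_contra hc
  push Not at hc
  have hi : AlgebraicIndependent k f := algebraicIndependent_iff.2 fun P hP => by
    by_contra h0; exact hc P h0 hP
  have := hi.lift_cardinalMk_le_trdeg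
  rw [MvPolynomial.trdeg_of_isDomain, Cardinal.mk_fintype, Cardinal.mk_fintype] at this
  simp only [Cardinal.lift_natCast, Nat.cast_le] at this
  omega

theorem exists_li_rows {ρ ι : Type*} [Fintype ρ] [Fintype ι] (A : Matrix ρ ι k) {r : ℕ}
    (h : r ≤ A.rank) : ∃ e : Fin r → ρ, LinearIndependent k (A.submatrix e id).row := by
  rw [rank_eq_finrank_span_row] at h
  obtain ⟨g, hg, -, hli⟩ := Submodule.exists_fun_fin_finrank_span_eq k (Set.range A.row)
  choose e he using hg
  refine ⟨fun i => e (Fin.castLE h i), ?_⟩
  have heq : (A.submatrix (fun i => e (Fin.castLE h i)) id).row = g ∘ Fin.castLE h := by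
    funext i
    exact he _
  rw [heq]
  exact hli.comp (Fin.castLE h) (Fin.castLE_injective h)

theorem exists_det_submatrix_ne_zero {ρ ι : Type*} [Fintype ρ] [Fintype ι] [DecidableEq ι]
    (A : Matrix ρ ι k) {r : ℕ} (h : r ≤ A.rank) :
    ∃ (e : Fin r → ρ) (c : Fin r ↪ ι), (A.submatrix e c).det ≠ 0 := by
  obtain ⟨e, he⟩ := exists_li_rows A h
  have h' : r ≤ (A.submatrix e id)ᵀ.rank := by
    rw [rank_transpose, he.rank_matrix, Fintype.card_fin]
  obtain ⟨c, hc⟩ := exists_li_rows _ h'
  have hinj : Function.Injective c := fun a b hab => hc.injective (by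
    funext j; simp [Matrix.row, hab])
  refine ⟨e, ⟨c, hinj⟩, ?_⟩
  have hu : IsUnit (A.submatrix e c)ᵀ := Matrix.linearIndependent_rows_iff_isUnit.1 hc
  rw [Matrix.isUnit_transpose, Matrix.isUnit_iff_isUnit_det] at hu
  exact hu.ne_zero

theorem eval_aeval' {ι τ : Type*} (w : τ → k) (f : ι → MvPolynomial τ k) (P : MvPolynomial ι k) :
    eval w (aeval f P) = eval (fun i => eval w (f i)) P := by
  induction P using MvPolynomial.induction_on with
  | C a => simp
  | add p q hp hq => simp only [map_add, hp, hq]
  | mul_X p j hp => simp only [map_mul, hp, aeval_X, eval_X]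

section

variable {σ ρ ι : Type*} [Fintype ι] [DecidableEq ι] {r : ℕ}
  (M : Matrix ρ ι (MvPolynomial σ k)) (e : Fin r → ρ) (c : Fin r ↪ ι)

/-- Parametrisation of the kernel of `M` where the minor `(e, c)` does not vanish. -/
noncomputable def kernelParam (i : ι) : MvPolynomial (σ ⊕ {j : ι // j ∉ Set.range c}) k :=
  if h : i ∈ Set.range c then
    -∑ j : {j : ι // j ∉ Set.range c}, rename Sum.inl
      ((M.submatrix e c).adjugate.mulVec (fun a => M (e a) j) (Classical.choose h)) * X (Sum.inr j)
  else rename Sum.inl (M.submatrix e c).det * X (Sum.inr ⟨i, h⟩)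

theorem eval_kernelParam (z : σ → k) (x : ι → k)
    (hd : eval z (M.submatrix e c).det ≠ 0) (hx : (M.map (eval z)).mulVec x = 0) (i : ι) :
    eval (Sum.elim z fun j : {j : ι // j ∉ Set.range c} => x j / eval z (M.submatrix e c).det)
      (kernelParam M e c i) = x i := by
  classical
  set D := eval z (M.submatrix e c).det with hD
  set w : σ ⊕ {j : ι // j ∉ Set.range c} → k := Sum.elim z fun j => x j / D with hw
  have hren : ∀ P : MvPolynomial σ k, eval w (rename Sum.inl P) = eval z P := fun P => by
    rw [eval_rename]; rfl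
  by_cases h : i ∈ Set.range c
  · unfold kernelParam
    rw [dif_pos h]
    obtain ⟨hi⟩ : Nonempty {a // c a = i} := ⟨⟨_, Classical.choose_spec h⟩⟩
    set a := Classical.choose h with ha
    have hca : c a = i := Classical.choose_spec h
    set A := (M.submatrix e c).map (eval z) with hA
    have hadj : (M.submatrix e c).adjugate.map (eval z) = A.adjugate := by
      rw [hA]; exact RingHom.map_adjugate (eval z) (M.submatrix e c)
    have hdet : A.det = D := by rw [hA, hD]; exact (RingHom.map_det (eval z) (M.submatrix e c)).symm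
    let v : Fin r → k := fun b => ∑ j : {j : ι // j ∉ Set.range c}, eval z (M (e b) j) * x j
    have hv : A.mulVec (x ∘ c) + v = 0 := by
      funext b
      have hb := congrFun hx (e b)
      simp only [Matrix.mulVec, dotProduct, Matrix.map_apply, Pi.zero_apply] at hb
      rw [← Finset.sum_add_sum_compl (Finset.univ.map c)] at hb
      simp only [Pi.add_apply, Pi.zero_apply, Matrix.mulVec, dotProduct, v, hA, Matrix.map_apply,
        Matrix.submatrix_apply, Function.comp]
      refine Eq.trans ?_ hb
      congr 1
      · rw [Finset.sum_map]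
      · refine (Finset.sum_subtype _ (fun j => ?_) fun j => eval z (M (e b) j) * x j).symm
        simp
    have key : A.adjugate.mulVec v = -(D • (x ∘ c)) := by
      rw [eq_neg_of_add_eq_zero_right hv, Matrix.mulVec_neg, Matrix.mulVec_mulVec,
        Matrix.adjugate_mul, hdet, Matrix.smul_mulVec, Matrix.one_mulVec]
    have key' := congrFun key a
    simp only [Pi.neg_apply, Pi.smul_apply, smul_eq_mul, Function.comp, hca] at key'
    have hkey : ∑ j : {j : ι // j ∉ Set.range c},
        eval z ((M.submatrix e c).adjugate.mulVec (fun b => M (e b) j) a) * x j = -(D * x i) := by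
      rw [← key']
      simp only [Matrix.mulVec, dotProduct, v, map_sum, map_mul, Finset.sum_mul, Finset.mul_sum,
        ← hadj, Matrix.map_apply]
      rw [Finset.sum_comm]
      exact Finset.sum_congr rfl fun b _ => Finset.sum_congr rfl fun j _ => by ring
    simp only [map_neg, map_sum, map_mul, eval_X, hren]
    simp only [hw, Sum.elim_inr]
    simp only [← mul_div_assoc, div_eq_mul_inv _ D, ← mul_assoc]
    rw [← Finset.sum_mul, hkey]
    field_simp
  · unfold kernelParam
    rw [dif_neg h]
    simp only [map_mul, hren, eval_X]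
    simp only [hw, Sum.elim_inr, ← hD]
    field_simp

theorem card_param [Fintype σ] :
    Fintype.card (σ ⊕ {j : ι // j ∉ Set.range c}) + r = Fintype.card σ + Fintype.card ι := by
  classical
  have h1 : Fintype.card {j : ι // j ∉ Set.range c} = Fintype.card ι - r := by
    rw [Fintype.card_subtype_compl]
    congr 1
    exact (Fintype.card_congr (Equiv.ofInjective c c.injective).symm).trans (Fintype.card_fin r)
  have h2 : r ≤ Fintype.card ι := by simpa using Fintype.card_le_of_embedding c
  rw [Fintype.card_sum, h1]
  omega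

end

variable {σ ρ ι : Type*} [Fintype σ] [Fintype ρ] [Fintype ι]

/-- The generic vector satisfies none of the systems of rank exceeding the number of parameters. -/
theorem incidence_avoid [DecidableEq ι] (M : Matrix ρ ι (MvPolynomial σ k)) (Z : Set (σ → k))
    {r : ℕ} (hσ : Fintype.card σ < r) (hr : ∀ z ∈ Z, r ≤ (M.map (eval z)).rank) :
    ∃ P : MvPolynomial ι k, P ≠ 0 ∧
      ∀ z ∈ Z, ∀ x, (M.map (eval z)).mulVec x = 0 → eval x P = 0 := by
  classical
  have h : ∀ p : (Fin r → ρ) × (Fin r ↪ ι), ∃ P : MvPolynomial ι k, P ≠ 0 ∧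
      aeval (kernelParam M p.1 p.2) P = 0 := fun p => exists_relation _ (by
    have := card_param (σ := σ) p.2
    omega)
  choose P hP hP' using h
  refine ⟨∏ p, P p, Finset.prod_ne_zero_iff.2 fun p _ => hP p, fun z hz x hx => ?_⟩
  obtain ⟨e, c, hd⟩ := exists_det_submatrix_ne_zero _ (hr z hz)
  have hd' : eval z (M.submatrix e c).det ≠ 0 := by rwa [RingHom.map_det]
  rw [map_prod]
  refine Finset.prod_eq_zero (Finset.mem_univ (e, c)) ?_
  have := congrArg (eval (Sum.elim z fun j : {j : ι // j ∉ Set.range c} =>
    x j / eval z (M.submatrix e c).det)) (hP' (e, c))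
  rw [map_zero, eval_aeval'] at this
  rw [← this]
  exact congrArg (fun v => eval v (P (e, c)))
    (funext fun i => (eval_kernelParam M e c z x hd' hx i).symm)

/-- If the rank is at least the number of parameters, the generic vector satisfies finitely many. -/
theorem incidence_finite [DecidableEq ι] (M : Matrix ρ ι (MvPolynomial σ k)) (Z : Set (σ → k))
    {r : ℕ} (hσ : Fintype.card σ ≤ r) (hr : ∀ z ∈ Z, r ≤ (M.map (eval z)).rank) :
    ∃ P : MvPolynomial ι k, P ≠ 0 ∧
      ∀ x, eval x P ≠ 0 → {z | z ∈ Z ∧ (M.map (eval z)).mulVec x = 0}.Finite := by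
  classical
  let f : (p : (Fin r → ρ) × (Fin r ↪ ι)) → σ → Option ι →
      MvPolynomial (σ ⊕ {j : ι // j ∉ Set.range p.2}) k :=
    fun p s i => i.elim (X (Sum.inl s)) (kernelParam M p.1 p.2)
  have h : ∀ (p : (Fin r → ρ) × (Fin r ↪ ι)) (s : σ), ∃ P : MvPolynomial (Option ι) k, P ≠ 0 ∧
      aeval (f p s) P = 0 := fun p s => exists_relation _ (by
    have := card_param (σ := σ) p.2
    rw [Fintype.card_option]
    omega)
  choose P hP hP' using h
  have hne : ∀ p s, (optionEquivLeft k ι (P p s)).leadingCoeff ≠ 0 := fun p s => by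
    simp [hP p s]
  refine ⟨∏ p, ∏ s, (optionEquivLeft k ι (P p s)).leadingCoeff,
    Finset.prod_ne_zero_iff.2 fun p _ => Finset.prod_ne_zero_iff.2 fun s _ => hne p s,
    fun x hx => ?_⟩
  simp only [map_prod, Finset.prod_ne_zero_iff] at hx
  let R : (Fin r → ρ) × (Fin r ↪ ι) → σ → Polynomial k :=
    fun p s => (optionEquivLeft k ι (P p s)).map (eval x)
  have hR : ∀ p s, R p s ≠ 0 := fun p s h0 => by
    have := congrArg (Polynomial.coeff · (optionEquivLeft k ι (P p s)).natDegree) h0
    simp only [R, Polynomial.coeff_map, Polynomial.coeff_zero] at this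
    exact hx p (Finset.mem_univ _) s (Finset.mem_univ _) this
  refine Set.Finite.subset (Set.finite_iUnion fun p => Set.Finite.pi' fun s =>
    (R p s).roots.toFinset.finite_toSet) ?_
  rintro z ⟨hz, hzx⟩
  obtain ⟨e, c, hd⟩ := exists_det_submatrix_ne_zero _ (hr z hz)
  have hd' : eval z (M.submatrix e c).det ≠ 0 := by rwa [RingHom.map_det]
  refine Set.mem_iUnion.2 ⟨(e, c), fun s => ?_⟩
  rw [Finset.mem_coe, Multiset.mem_toFinset, Polynomial.mem_roots (hR _ s), Polynomial.IsRoot.def]
  simp only [R]
  rw [← optionEquivLeft_elim_eval]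
  set w := Sum.elim z fun j : {j : ι // j ∉ Set.range c} => x j / eval z (M.submatrix e c).det
  have := congrArg (eval w) (hP' (e, c) s)
  rw [map_zero] at this
  rw [← this, eval_aeval']
  refine congrArg (fun v => eval v (P (e, c) s)) (funext fun i => ?_)
  cases i with
  | none => simp [f, w]
  | some i => simp [f, w, eval_kernelParam M e c z x hd' hzx i]

end Groth.Agent.LefGeo
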