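import Groth.Prelude.Def_LefPen
import Groth.Agent.LefGeo.Incidence
import Mathlib.Algebra.Order.Antidiag.FinsuppEquiv
import Mathlib.Algebra.MvPolynomial.Funext
import Mathlib.RingTheory.MvPolynomial.Homogeneous

/-!
# Forms restricted to linear subspaces, and the charts of Grassmannians
-/

universe u

namespace Groth.Agent.LefGeo

open MvPolynomial Matrix

variable {k : Type u} [Field k] {n d m : ℕ}

/-- Exponents of degree `d` in `m` variables. -/
abbrev Expo (m d : ℕ) : Type := {e // e ∈ (Finset.univ : Finset (Fin m)).finsuppAntidiag d}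

theorem mem_expo {e : Fin m →₀ ℕ} :
    e ∈ (Finset.univ : Finset (Fin m)).finsuppAntidiag d ↔ e.degree = d := by
  simp [Finset.mem_finsuppAntidiag, Finsupp.degree_eq_sum]

theorem card_expo : Fintype.card (Expo (m + 1) d) = (m + d).choose m := by
  rw [Fintype.card_coe, Finset.card_finsuppAntidiag_nat_eq_choose, Finset.card_univ,
    Fintype.card_fin, show m + 1 + d - 1 = m + d by omega]
  exact (Nat.choose_symm_add).symm

instance form_finite : Module.Finite k (LefPen.Form n k d) := by
  classical
  let S : Set (Fin (n + 1) →₀ ℕ) := {e | e.degree = d}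
  let e : Expo (n + 1) d ≃ S := Equiv.subtypeEquivRight fun a => mem_expo
  haveI : Fintype S := Fintype.ofEquiv _ e
  let φ : homogeneousSubmodule (Fin (n + 1)) k d ≃ₗ[k] (S →₀ k) :=
    (LinearEquiv.ofEq _ _ (homogeneousSubmodule_eq_finsupp_supported (σ := Fin (n + 1)) (R := k) d)).trans
      (AddMonoidAlgebra.supportedEquivFinsupp S)
  exact Module.Finite.equiv φ.symm

variable (k n d) in
/-- A basis of the space of forms. -/
noncomputable def formBasis :
    Module.Basis (Fin (Module.finrank k (LefPen.Form n k d))) k (LefPen.Form n k d) :=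
  Module.finBasis k _

theorem form_eq_sum (G : LefPen.Form n k d) :
    G.1 = ∑ i, (formBasis k n d).repr G i • (formBasis k n d i).1 := by
  have h := congrArg (Submodule.subtype _) ((formBasis k n d).sum_repr G).symm
  rw [map_sum] at h
  simpa using h

/-- The form restricted to the span of the vectors `u`, in the coordinates given by `u`. -/
noncomputable def restrict {R : Type*} [CommRing R] [Algebra k R] (u : Fin m → Fin (n + 1) → R)
    (G : MvPolynomial (Fin (n + 1)) k) : MvPolynomial (Fin m) R :=
  aeval (fun j => ∑ a, C (u a j) * X a) G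

theorem restrict_isHomogeneous {R : Type*} [CommRing R] [Algebra k R] (u : Fin m → Fin (n + 1) → R)
    {G : MvPolynomial (Fin (n + 1)) k} (hG : G.IsHomogeneous d) :
    (restrict u G).IsHomogeneous d := by
  have := hG.aeval (fun j => ∑ a, C (u a j) * X a)
    (fun j => IsHomogeneous.sum _ _ 1 fun a _ => isHomogeneous_C_mul_X _ _)
  simpa [restrict] using this

theorem eval_restrict (u : Fin m → Fin (n + 1) → k) (G : MvPolynomial (Fin (n + 1)) k)
    (s : Fin m → k) : eval s (restrict u G) = eval (∑ a, s a • u a) G := by
  rw [restrict, eval_aeval']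
  congr 2
  funext j
  simp [Finset.sum_apply, mul_comm]

theorem map_restrict {R S : Type*} [CommRing R] [Algebra k R] [CommRing S] [Algebra k S]
    (φ : R →ₐ[k] S) (u : Fin m → Fin (n + 1) → R) (G : MvPolynomial (Fin (n + 1)) k) :
    MvPolynomial.map φ.toRingHom (restrict u G) = restrict (fun a j => φ (u a j)) G := by
  simp only [restrict]
  induction G using MvPolynomial.induction_on with
  | C a => simp
  | add p q hp hq => simp only [map_add, hp, hq]
  | mul_X p j hp => simp only [map_mul, hp, aeval_X, map_sum, map_C, map_X]; rfl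

theorem restrict_eq_zero_iff [Infinite k] (u : Fin m → Fin (n + 1) → k)
    (G : MvPolynomial (Fin (n + 1)) k) :
    restrict u G = 0 ↔ ∀ v ∈ Submodule.span k (Set.range u), eval v G = 0 := by
  constructor
  · intro h v hv
    obtain ⟨s, rfl⟩ := (Submodule.mem_span_range_iff_exists_fun k).1 hv
    rw [← eval_restrict, h, map_zero]
  · intro h
    refine MvPolynomial.funext fun s => ?_
    rw [map_zero, eval_restrict]
    exact h _ (Submodule.sum_mem _ fun a _ => Submodule.smul_mem _ _ (Submodule.subset_span ⟨a, rfl⟩))

theorem homogeneous_eq_zero_iff {R : Type*} [CommRing R] {P : MvPolynomial (Fin m) R}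
    (hP : P.IsHomogeneous d) : P = 0 ↔ ∀ e : Expo m d, coeff e.1 P = 0 := by
  refine ⟨fun h e => by simp [h], fun h => ?_⟩
  ext e
  rw [coeff_zero]
  by_cases he : e.degree = d
  · exact h ⟨e, mem_expo.2 he⟩
  · exact hP.coeff_eq_zero he

section Cond

variable {σ : Type*} (L : Fin m → Fin (n + 1) → MvPolynomial σ k)

variable (d) in
/-- The linear conditions on a form to vanish on the span of `L z`, polynomial in `z`. -/
noncomputable def condMatrix :
    Matrix (Expo m d) (Fin (Module.finrank k (LefPen.Form n k d))) (MvPolynomial σ k) :=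
  fun e i => coeff e.1 (restrict L (formBasis k n d i).1)

theorem condMatrix_mulVec (z : σ → k) (G : LefPen.Form n k d) (e : Expo m d) :
    ((condMatrix d L).map (eval z)).mulVec ((formBasis k n d).repr G) e =
      coeff e.1 (restrict (fun a j => eval z (L a j)) G.1) := by
  have hev : ∀ P : MvPolynomial σ k, aeval z P = eval z P := fun P => by rw [← coe_aeval_eq_eval]; rfl
  have hlin : restrict (fun a j => eval z (L a j)) G.1 =
      ∑ i, (formBasis k n d).repr G i • restrict (fun a j => eval z (L a j)) (formBasis k n d i).1 := by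
    conv_lhs => rw [form_eq_sum G]
    simp [restrict, map_sum, map_smul]
  rw [hlin, coeff_sum]
  simp only [Matrix.mulVec, dotProduct, Matrix.map_apply, condMatrix, coeff_smul, smul_eq_mul]
  refine Finset.sum_congr rfl fun i _ => ?_
  have h : restrict (fun a j => eval z (L a j)) (formBasis k n d i).1 =
      MvPolynomial.map (aeval z : MvPolynomial σ k →ₐ[k] k).toRingHom
        (restrict L (formBasis k n d i).1) := by
    rw [map_restrict]
    simp only [hev]
  rw [h, coeff_map]
  simp only [AlgHom.toRingHom_eq_coe, RingHom.coe_coe, hev]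
  ring

theorem condMatrix_mulVec_eq_zero_iff [Infinite k] (z : σ → k) (G : LefPen.Form n k d) :
    ((condMatrix d L).map (eval z)).mulVec ((formBasis k n d).repr G) = 0 ↔
      ∀ v ∈ Submodule.span k (Set.range fun a j => eval z (L a j)), eval v G.1 = 0 := by
  rw [← restrict_eq_zero_iff, homogeneous_eq_zero_iff (restrict_isHomogeneous _ G.2), funext_iff]
  simp only [condMatrix_mulVec, Pi.zero_apply]

/-- At parameters where the vectors have dual coordinates the conditions are independent. -/
theorem card_le_rank_condMatrix (z : σ → k) (c : Fin m → Fin (n + 1))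
    (hc : ∀ a b, eval z (L a (c b)) = if a = b then 1 else 0) :
    Fintype.card (Expo m d) ≤ ((condMatrix d L).map (eval z)).rank := by
  classical
  have hsurj : Function.Surjective ((condMatrix d L).map (eval z)).mulVecLin := by
    intro t
    let P : MvPolynomial (Fin (n + 1)) k :=
      ∑ e : Expo m d, C (t e) * ∏ b, X (c b) ^ e.1 b
    have hP : P.IsHomogeneous d := by
      refine IsHomogeneous.sum _ _ d fun e _ => IsHomogeneous.C_mul ?_ _
      have h := IsHomogeneous.prod Finset.univ (fun b => (X (c b) : MvPolynomial (Fin (n+1)) k) ^ e.1 b)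
        (fun b => e.1 b) (fun b _ => isHomogeneous_X_pow _ _)
      have he : ∑ b, e.1 b = d := by
        exact (Finsupp.degree_eq_sum e.1).symm.trans (mem_expo.1 e.2)
      rwa [he] at h
    refine ⟨(formBasis k n d).repr ⟨P, (MvPolynomial.mem_homogeneousSubmodule d P).2 hP⟩, ?_⟩
    funext e
    rw [Matrix.mulVecLin_apply, condMatrix_mulVec]
    have hX : ∀ b, (∑ a, C (eval z (L a (c b))) * X a : MvPolynomial (Fin m) k) = X b := fun b => by
      simp only [hc]
      simp [apply_ite C, ite_mul]
    have hres : restrict (fun a j => eval z (L a j)) P = ∑ e : Expo m d, monomial e.1 (t e) := by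
      simp only [P, restrict, map_sum, map_mul, map_prod, map_pow, aeval_X, aeval_C, hX]
      refine Finset.sum_congr rfl fun e _ => ?_
      rw [monomial_eq, Finsupp.prod_fintype _ _ (fun _ => pow_zero _)]
      rfl
    simp only [hres, coeff_sum, coeff_monomial]
    rw [Finset.sum_eq_single e]
    · simp
    · intro b _ hb
      rw [if_neg fun h => hb (Subtype.ext h)]
    · simp
  rw [Matrix.rank, LinearMap.range_eq_top.2 hsurj, finrank_top, Module.finrank_fintype_fun_eq_card]

end Cond

section Chart

/-- The parameters of the chart of subspaces projecting isomorphically to the coordinates `c`. -/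
abbrev ChartVar (c : Fin m ↪ Fin (n + 1)) : Type := Fin m × {j : Fin (n + 1) // j ∉ Set.range c}

variable (k) in
/-- The normalised spanning vectors of the chart `c`. -/
noncomputable def chartVec (c : Fin m ↪ Fin (n + 1)) (a : Fin m) (j : Fin (n + 1)) :
    MvPolynomial (ChartVar c) k :=
  if h : j ∈ Set.range c then (if c a = j then 1 else 0) else X (a, ⟨j, h⟩)

theorem eval_chartVec_dual (c : Fin m ↪ Fin (n + 1)) (z : ChartVar c → k) (a b : Fin m) :
    eval z (chartVec k c a (c b)) = if a = b then 1 else 0 := by
  unfold chartVec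
  rw [dif_pos ⟨b, rfl⟩]
  by_cases h : a = b <;> simp [h]

theorem card_chartVar (c : Fin m ↪ Fin (n + 1)) :
    Fintype.card (ChartVar c) = m * (n + 1 - m) := by
  classical
  rw [Fintype.card_prod, Fintype.card_fin, Fintype.card_subtype_compl]
  congr 2
  · simp
  · exact (Fintype.card_congr (Equiv.ofInjective c c.injective).symm).trans (Fintype.card_fin m)

/-- Every subspace of dimension `m` lies in one of the charts. -/
theorem exists_chart (U : Submodule k (Fin (n + 1) → k)) (hU : Module.finrank k ↥U = m) :
    ∃ (c : Fin m ↪ Fin (n + 1)) (z : ChartVar c → k),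
      Submodule.span k (Set.range fun a j => eval z (chartVec k c a j)) = U := by
  classical
  let b := Module.finBasisOfFinrankEq k U hU
  let W : Matrix (Fin m) (Fin (n + 1)) k := fun a j => (b a).1 j
  have hli : LinearIndependent k W.row := b.linearIndependent.map' U.subtype (Submodule.ker_subtype U)
  obtain ⟨e, c, hd⟩ := exists_det_submatrix_ne_zero W (r := m) (by rw [hli.rank_matrix]; simp)
  let A := W.submatrix e c
  let W' : Matrix (Fin m) (Fin (n + 1)) k := A⁻¹ * W.submatrix e id
  have hW' : ∀ a a', W' a (c a') = if a = a' then 1 else 0 := fun a a' => by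
    have h1 : (A⁻¹ * A) a a' = (1 : Matrix (Fin m) (Fin m) k) a a' := by
      rw [Matrix.nonsing_inv_mul _ (isUnit_iff_ne_zero.2 hd)]
    simpa [W', Matrix.mul_apply, A, Matrix.one_apply] using h1
  refine ⟨c, fun p => W' p.1 p.2.1, ?_⟩
  have heq : (fun a j => eval (fun p => W' p.1 p.2.1) (chartVec k c a j)) = W' := by
    funext a j
    unfold chartVec
    by_cases h : j ∈ Set.range c
    · obtain ⟨a', rfl⟩ := h
      rw [dif_pos ⟨a', rfl⟩, hW']
      by_cases h : a = a' <;> simp [h]
    · rw [dif_neg h, eval_X]
  rw [heq]
  refine Submodule.eq_of_le_of_finrank_eq (Submodule.span_le.2 ?_) ?_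
  · rintro _ ⟨a, rfl⟩
    have : W' a = ∑ i, A⁻¹ a i • (b (e i)).1 := by
      funext j; simp [W', Matrix.mul_apply, W, Finset.sum_apply, Matrix.submatrix]
    rw [SetLike.mem_coe]
    change W' a ∈ U
    rw [this]
    exact U.sum_mem fun i _ => U.smul_mem _ (b (e i)).2
  · rw [finrank_span_eq_card (R := k) (b := W'), Fintype.card_fin, hU]
    refine Fintype.linearIndependent_iff.2 fun g hg a => ?_
    have := congrFun hg (c a)
    simp only [Finset.sum_apply, Pi.smul_apply, smul_eq_mul, Pi.zero_apply] at this
    simpa [show ∀ i, W' i (c a) = if i = a then 1 else 0 from fun i => hW' i a] using this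

end Chart

end Groth.Agent.LefGeo
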