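import Groth.Agent.LefGeo.Singular
import Mathlib.Algebra.MvPolynomial.Division

/-!
# Forms vanishing on coordinate hyperplanes
-/

universe u

namespace Groth.Agent.LefGeo

open MvPolynomial

variable {k : Type u} [Field k]

theorem X_dvd_of_vanish [Infinite k] {σ : Type*} (i : σ) (g : MvPolynomial σ k)
    (h : ∀ s : σ → k, s i = 0 → eval s g = 0) : X i ∣ g := by
  classical
  rw [X_dvd_iff_modMonomial_eq_zero]
  refine MvPolynomial.funext fun s => ?_
  rw [map_zero]
  set r := g.modMonomial (Finsupp.single i 1) with hr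
  have h0 : eval (Function.update s i 0) g = 0 := h _ (Function.update_self _ _ _)
  rw [← g.divMonomial_add_modMonomial_single i, map_add, map_mul, eval_X, Function.update_self,
    zero_mul, zero_add, ← hr] at h0
  rw [← h0, eval_eq, eval_eq]
  refine Finset.sum_congr rfl fun e he => congrArg _ (Finset.prod_congr rfl fun j hj => ?_)
  have hei : e i = 0 := by
    by_contra hne
    refine mem_support_iff.1 he (coeff_modMonomial_of_le _ ?_)
    intro l
    rcases eq_or_ne l i with rfl | hl
    · simp; omega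
    · simp [hl.symm]
  rcases eq_or_ne j i with rfl | hl
  · exact absurd hei (Finsupp.mem_support_iff.1 hj)
  · rw [Function.update_of_ne hl]

theorem isHomogeneous_of_X_mul {σ : Type*} {i : σ} {g : MvPolynomial σ k} {d : ℕ}
    (h : (X i * g).IsHomogeneous (d + 1)) : g.IsHomogeneous d := by
  intro e he
  have := h (d := Finsupp.single i 1 + e) (by rwa [coeff_X_mul])
  simp only [map_add, Finsupp.weight_single, smul_eq_mul, Pi.one_apply, mul_one] at this
  omega

theorem eq_linForm_of_isHomogeneous {n : ℕ} {g : MvPolynomial (Fin (n + 1)) k} (h : g.IsHomogeneous 1) :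
    g = linForm fun i => coeff (Finsupp.single i 1) g := by
  classical
  ext e
  by_cases he : e.degree = 1
  · obtain ⟨i, rfl⟩ : ∃ i, e = Finsupp.single i 1 := by
      obtain ⟨i, hi⟩ : ∃ i, e i ≠ 0 := by
        by_contra hc
        push Not at hc
        rw [show e = 0 from Finsupp.ext hc] at he
        simp at he
      refine ⟨i, Finsupp.ext fun j => ?_⟩
      rw [Finsupp.degree_eq_sum, ← Finset.add_sum_erase _ _ (Finset.mem_univ i)] at he
      rcases eq_or_ne j i with rfl | hj
      · simp; omega
      · have : e j ≤ ∑ l ∈ Finset.univ.erase i, e l :=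
          Finset.single_le_sum (fun l _ => Nat.zero_le _) (Finset.mem_erase.2 ⟨hj, Finset.mem_univ _⟩)
        simp [hj.symm]; omega
    simp [linForm, coeff_sum, coeff_C_mul, coeff_X, Finsupp.single_left_inj]
  · rw [h.coeff_eq_zero he, (linForm_isHomogeneous _).coeff_eq_zero he]

/-- A ternary cubic vanishing on two coordinate lines is the product of their equations and a
linear form. -/
theorem cubic_two_lines [Infinite k] {g : MvPolynomial (Fin 3) k} (hg : g.IsHomogeneous 3)
    (h1 : ∀ s : Fin 3 → k, s 1 = 0 → eval s g = 0) (h2 : ∀ s : Fin 3 → k, s 2 = 0 → eval s g = 0) :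
    ∃ l : Fin 3 → k, g = X 1 * (X 2 * linForm l) := by
  obtain ⟨g', rfl⟩ := X_dvd_of_vanish 1 g h1
  have h2' : ∀ s : Fin 3 → k, s 2 = 0 → eval s g' = 0 := by
    have hd : (X 2 : MvPolynomial (Fin 3) k) ∣ X 1 * g' := X_dvd_of_vanish 2 _ h2
    have hX : ¬ (X 2 : MvPolynomial (Fin 3) k) ∣ X 1 := by
      rintro ⟨c, hc⟩
      simpa using congrArg (eval fun j : Fin 3 => if j = 1 then (1 : k) else 0) hc
    obtain ⟨c, hc⟩ := (X_prime.dvd_or_dvd hd).resolve_left hX
    intro s hs
    simp [hc, hs]
  obtain ⟨g'', rfl⟩ := X_dvd_of_vanish 2 g' h2'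
  exact ⟨_, by rw [← eq_linForm_of_isHomogeneous (isHomogeneous_of_X_mul (isHomogeneous_of_X_mul hg))]⟩

/-- If a product of two forms vanishes on a subspace, one of them does. -/
theorem vanish_or_vanish_of_mul [Infinite k] {n m : ℕ} (u : Fin m → Fin (n + 1) → k)
    (P Q : MvPolynomial (Fin (n + 1)) k)
    (h : ∀ v ∈ Submodule.span k (Set.range u), eval v (P * Q) = 0) :
    (∀ v ∈ Submodule.span k (Set.range u), eval v P = 0) ∨
      (∀ v ∈ Submodule.span k (Set.range u), eval v Q = 0) := by
  rw [← restrict_eq_zero_iff, restrict, map_mul, mul_eq_zero] at h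
  exact h.imp (restrict_eq_zero_iff u P).1 (restrict_eq_zero_iff u Q).1

/-- A linear form has a non-zero zero on a plane. -/
theorem exists_zero_on_plane {n : ℕ} (l : Fin (n + 1) → k) (U : Submodule k (Fin (n + 1) → k))
    (hU : 2 ≤ Module.finrank k ↥U) : ∃ v ∈ U, v ≠ 0 ∧ eval v (linForm l) = 0 := by
  let φ : ↥U →ₗ[k] k := (Fintype.linearCombination k l).comp U.subtype
  have h := LinearMap.finrank_range_add_finrank_ker φ
  have h2 := (LinearMap.range φ).finrank_le
  rw [Module.finrank_self] at h2
  have hne : LinearMap.ker φ ≠ ⊥ := fun h0 => by rw [h0, finrank_bot] at h; omega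
  obtain ⟨⟨v, hvU⟩, hv, hv0⟩ := Submodule.exists_mem_ne_zero_of_ne_bot hne
  refine ⟨v, hvU, fun h0 => hv0 (Subtype.ext h0), ?_⟩
  rw [LinearMap.mem_ker] at hv
  rw [eval_linForm, dotProduct]
  simpa [φ, Fintype.linearCombination_apply, mul_comm] using hv

end Groth.Agent.LefGeo
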