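import Groth.Prelude.Def_LefPen
import Mathlib.Algebra.MvPolynomial.Funext
import Mathlib.LinearAlgebra.Basis.Basic

/-!
# Polynomial functions in coordinates
-/

universe u

namespace Groth.Agent.LefGeo

open MvPolynomial

variable {k : Type u} [Field k] {V : Type u} [AddCommGroup V] [Module k V] {ι : Type*}

/-- A polynomial in linear forms is a polynomial function. -/
theorem isPolyFun_eval (L : ι → Module.Dual k V) (P : MvPolynomial ι k) :
    LefPen.IsPolyFun k (fun v => eval (fun i => L i v) P) := by
  unfold LefPen.IsPolyFun
  set A := Algebra.adjoin k (Set.range fun l : Module.Dual k V => (l : V → k))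
  have h : (fun v => eval (fun i => L i v) P) = aeval (fun i => (L i : V → k)) P := by
    funext v
    induction P using MvPolynomial.induction_on with
    | C a => simp
    | add p q hp hq => simp [hp, hq]
    | mul_X p j hp => simp [hp]
  rw [h]
  clear h
  induction P using MvPolynomial.induction_on with
  | C a => simpa using A.algebraMap_mem a
  | add p q hp hq => simpa using add_mem hp hq
  | mul_X p j hp =>
    simpa using mul_mem hp (Algebra.subset_adjoin (Set.mem_range_self (L j)))

/-- A set containing the non-vanishing locus of a non-zero polynomial in coordinates is generic. -/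
theorem isGeneric_of_poly [Infinite k] (b : Module.Basis ι k V) [Finite ι] {S : Set V}
    (P : MvPolynomial ι k) (hP : P ≠ 0) (h : ∀ v, eval (fun i => b.repr v i) P ≠ 0 → v ∈ S) :
    LefPen.IsGeneric k S := by
  refine ⟨fun v => eval (fun i => b.coord i v) P, isPolyFun_eval (fun i => b.coord i) P, ?_, h⟩
  by_contra hc
  push Not at hc
  refine hP (MvPolynomial.funext fun x => ?_)
  haveI := Fintype.ofFinite ι
  have := hc (b.equivFun.symm x)
  rw [map_zero]
  simp only [Module.Basis.coord_apply, ← Module.Basis.equivFun_apply,
    LinearEquiv.apply_symm_apply] at this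
  exact this

/-- A set which is, around each of its points, a non-vanishing locus is open. -/
theorem isZOpen_of_poly (b : Module.Basis ι k V) {S : Set V}
    (h : ∀ v ∈ S, ∃ P : MvPolynomial ι k, eval (fun i => b.repr v i) P ≠ 0 ∧
      ∀ w, eval (fun i => b.repr w i) P ≠ 0 → w ∈ S) :
    LefPen.IsZOpen k S := fun v hv => by
  obtain ⟨P, hPv, hP⟩ := h v hv
  exact ⟨fun w => eval (fun i => b.coord i w) P, isPolyFun_eval (fun i => b.coord i) P, hPv, hP⟩

end Groth.Agent.LefGeo
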