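import Groth.Agent.LefGeo.Linear
import Groth.Agent.LefGeo.Elim
import Groth.Agent.VarDim.Proj
import Groth.Agent.Hensel.NoethCriterion
import Mathlib.FieldTheory.Separable
import Mathlib.RingTheory.UniqueFactorizationDomain.Basic
import Mathlib.RingTheory.Polynomial.UniqueFactorization

/-!
# Squarefree forms
-/

universe u

namespace Groth.Agent.LefGeo

open MvPolynomial Groth.Agent.VarDim.ProjN

variable {k : Type u} [Field k] {n d : ℕ}

/-- A form fails to be squarefree only through a square of a form. -/
theorem squarefree_iff_forms {F : MvPolynomial (Fin (n + 1)) k} (hF : F.IsHomogeneous d) (hF0 : F ≠ 0) :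
    Squarefree F ↔ ∀ e, 1 ≤ e → 2 * e ≤ d → ∀ G H : MvPolynomial (Fin (n + 1)) k,
      G.IsHomogeneous e → H.IsHomogeneous (d - 2 * e) → F ≠ G * G * H := by
  constructor
  · intro hsq e he _ G H hG _ h
    have hu := hsq G ⟨H, h⟩
    rw [MvPolynomial.isUnit_iff_totalDegree_of_isReduced] at hu
    have hG0 : G ≠ 0 := fun h0 => hF0 (by rw [h, h0]; simp)
    rw [hG.totalDegree hG0] at hu
    omega
  · intro h x hx
    by_contra hu
    have hx0 : x ≠ 0 := fun h0 => hF0 (by
      obtain ⟨c, hc⟩ := hx
      rw [hc, h0, zero_mul, zero_mul])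
    obtain ⟨p, hp, hpx⟩ := WfDvdMonoid.exists_irreducible_factor hu hx0
    have hpp : p * p ∣ F := (mul_dvd_mul hpx hpx).trans hx
    obtain ⟨e, hpe⟩ := exists_isHomogeneous_of_span hp.ne_zero
      (span_isHomogeneous_of_dvd hp.prime hF0 hF ((dvd_mul_right p p).trans hpp))
    have he : 1 ≤ e := by
      by_contra he
      have he0 : e = 0 := by omega
      subst he0
      rw [← totalDegree_zero_iff_isHomogeneous, totalDegree_eq_zero_iff_eq_C] at hpe
      refine hp.not_isUnit ?_
      rw [hpe]
      refine IsUnit.map _ (isUnit_iff_ne_zero.2 fun h0 => hp.ne_zero ?_)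
      rw [hpe, h0, map_zero]
    obtain ⟨c, hc⟩ := hpp
    have hc0 : c ≠ 0 := fun h0 => hF0 (by rw [hc, h0, mul_zero])
    have hhom : (p * p).IsHomogeneous (e + e) := hpe.mul hpe
    have hdeg : e + e ≤ d := by
      have h1 := hF.totalDegree hF0
      rw [hc, totalDegree_mul_of_isDomain (mul_ne_zero hp.ne_zero hp.ne_zero) hc0,
        hhom.totalDegree (mul_ne_zero hp.ne_zero hp.ne_zero)] at h1
      omega
    have hFc : F = p * p * homogeneousComponent (d - 2 * e) c := by
      have h1 := Groth.Agent.Hensel.homogeneousComponent_mul_of_isHomogeneous c hhom d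
      rw [if_pos hdeg, mul_comm c, ← hc, homogeneousComponent_of_mem hF, if_pos rfl] at h1
      rw [h1, show d - (e + e) = d - 2 * e by omega, mul_comm]
    exact h e he (by omega) p _ hpe (homogeneousComponent_isHomogeneous _ _) hFc

/-- A squarefree form of each degree. -/
theorem exists_squarefree [Infinite k] (hn : 1 ≤ n) :
    ∃ F : LefPen.Form n k d, Squarefree F.1 := by
  classical
  let j : Fin (n + 1) := ⟨1, by omega⟩
  have hj : j ≠ 0 := fun h => by simpa [j] using congrArg Fin.val h
  let t : Fin d → k := fun i => (Infinite.natEmbedding k) i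
  have ht : Function.Injective t := (Infinite.natEmbedding k).injective.comp Fin.val_injective
  let F : MvPolynomial (Fin (n + 1)) k := ∏ i, (X j - C (t i) * X 0)
  have hF : F.IsHomogeneous d := by
    have := IsHomogeneous.prod Finset.univ (fun i => X j - C (t i) * (X 0 : MvPolynomial (Fin (n + 1)) k))
      (fun _ => 1) (fun i _ => (isHomogeneous_X k j).sub (isHomogeneous_C_mul_X _ _))
    simpa using this
  refine ⟨⟨F, (mem_homogeneousSubmodule d _).2 hF⟩, ?_⟩
  let ψ : MvPolynomial (Fin (n + 1)) k →ₐ[k] Polynomial k :=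
    aeval fun i => if i = 0 then 1 else if i = j then Polynomial.X else 0
  have hψF : ψ F = ∏ i, (Polynomial.X - Polynomial.C (t i)) := by
    simp [ψ, F, hj]
  have hne : ψ F ≠ 0 := by
    rw [hψF]; exact Finset.prod_ne_zero_iff.2 fun i _ => Polynomial.X_sub_C_ne_zero _
  have hF0 : F ≠ 0 := fun h => hne (by rw [h, map_zero])
  have hdeg : ∀ {G : MvPolynomial (Fin (n + 1)) k} {e}, G.IsHomogeneous e → (ψ G).natDegree ≤ e := by
    intro G e hG
    refine (aeval_natDegree_le (n := 1) G hG.totalDegree_le _ fun i => ?_).trans (by omega)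
    split_ifs <;> simp
  show Squarefree F
  rw [squarefree_iff_forms hF hF0]
  intro e he hed G H hG hH hGH
  have hsep : (ψ F).Separable := by rw [hψF]; exact Polynomial.separable_prod_X_sub_C_iff.2 ht
  have hsq := hsep.squarefree (ψ G) ⟨ψ H, by rw [hGH]; simp only [map_mul]⟩
  have h1 : (ψ F).natDegree = d := by
    rw [hψF, Polynomial.natDegree_prod _ _ fun i _ => Polynomial.X_sub_C_ne_zero _]
    simp
  have hGne : ψ G ≠ 0 := fun h0 => hne (by rw [hGH]; simp only [map_mul, h0, zero_mul])
  have hHne : ψ H ≠ 0 := fun h0 => hne (by rw [hGH]; simp only [map_mul, h0, mul_zero])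
  rw [hGH, map_mul, map_mul, Polynomial.natDegree_mul (mul_ne_zero hGne hGne) hHne,
    Polynomial.natDegree_mul hGne hGne, Polynomial.natDegree_eq_zero_of_isUnit hsq] at h1
  have := hdeg hH
  omega

section Open

variable (e : ℕ)

/-- The indices of a basis of the forms of degree `e`. -/
abbrev Idx (k : Type u) [Field k] (n e : ℕ) : Type := Fin (Module.finrank k (LefPen.Form n k e))

/-- Whether `F` lies in `G² ·` forms, as a matrix polynomial in the coordinates of `F` and `G`. -/
noncomputable def sqMatrix (d : ℕ) :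
    Matrix (Expo (n + 1) d) (Option (Idx k n (d - 2 * e))) (MvPolynomial (Idx k n d ⊕ Idx k n e) k) :=
  fun r c => c.elim (∑ i, MvPolynomial.C (coeff r.1 (formBasis k n d i).1) * X (Sum.inl i))
    fun j => ∑ i, ∑ i', MvPolynomial.C (coeff r.1
      ((formBasis k n e i).1 * (formBasis k n e i').1 * (formBasis k n (d - 2 * e) j).1)) *
      X (Sum.inr i) * X (Sum.inr i')

variable {e}

theorem sqMatrix_mulVec (hed : 2 * e ≤ d) (F : LefPen.Form n k d) (G : LefPen.Form n k e)
    (c : k) (H : LefPen.Form n k (d - 2 * e)) (r : Expo (n + 1) d) :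
    (((sqMatrix e d).map (eval (Sum.elim ((formBasis k n d).repr F) ((formBasis k n e).repr G)))).mulVec
      fun o => o.elim c fun j => (formBasis k n (d - 2 * e)).repr H j) r =
      coeff r.1 (c • F.1 + G.1 * G.1 * H.1) := by
  rw [coeff_add, coeff_smul, form_eq_sum F, form_eq_sum G, form_eq_sum H]
  simp only [Matrix.mulVec, dotProduct, Matrix.map_apply, sqMatrix, Fintype.sum_option, Option.elim_none,
    Option.elim_some]
  generalize (formBasis k n d).repr F = a
  generalize (formBasis k n e).repr G = g
  generalize (formBasis k n (d - 2 * e)).repr H = h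
  congr 1
  · simp only [map_sum, map_mul, eval_C, eval_X, Sum.elim_inl, coeff_sum, coeff_smul, smul_eq_mul,
      Finset.sum_mul, Finset.mul_sum]
    exact Finset.sum_congr rfl fun i _ => by ring
  · simp only [map_sum, map_mul, eval_C, eval_X, Sum.elim_inr]
    rw [Finset.sum_mul_sum, Finset.sum_mul_sum]
    simp only [smul_mul_smul_comm, Finset.sum_mul, coeff_sum, coeff_smul, smul_eq_mul]
    conv_rhs => rw [Finset.sum_comm]
    exact Finset.sum_congr rfl fun j _ => Finset.sum_congr rfl fun i _ =>
      Finset.sum_congr rfl fun i' _ => by ring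

variable [IsAlgClosed k]

/-- Around a squarefree form there are only squarefree forms. -/
theorem exists_poly_squarefree (F : LefPen.Form n k d) (hF : Squarefree F.1) :
    ∃ Q : MvPolynomial (Idx k n d) k, eval ((formBasis k n d).repr F) Q ≠ 0 ∧
      ∀ F' : LefPen.Form n k d, eval ((formBasis k n d).repr F') Q ≠ 0 → Squarefree F'.1 := by
  classical
  have hF0 : F ≠ 0 := fun h0 => not_squarefree_zero (by rw [h0] at hF; exact hF)
  obtain ⟨i₀, hi₀⟩ : ∃ i, (formBasis k n d).repr F i ≠ 0 := by
    by_contra hc
    push Not at hc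
    exact hF0 ((formBasis k n d).repr.injective (by rw [map_zero]; exact Finsupp.ext hc))
  have hsq := (squarefree_iff_forms F.2 (fun h => hF0 (Subtype.ext h))).1 hF
  have key : ∀ e : Fin (d + 1), 1 ≤ e.1 → 2 * e.1 ≤ d →
      ∃ Q : MvPolynomial (Idx k n d) k, eval ((formBasis k n d).repr F) Q ≠ 0 ∧
      ∀ F' : LefPen.Form n k d, eval ((formBasis k n d).repr F') Q ≠ 0 →
        ∀ G H : MvPolynomial (Fin (n + 1)) k, G.IsHomogeneous e.1 → H.IsHomogeneous (d - 2 * e.1) →
          G ≠ 0 → F'.1 ≠ G * G * H := by
    intro ⟨e, _⟩ he hed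
    simp only at he hed ⊢
    set N := Fintype.card (Option (Idx k n (d - 2 * e)))
    let A := sqMatrix (k := k) (n := n) e d
    let P : (Fin N → Expo (n + 1) d) × (Fin N ↪ Option (Idx k n (d - 2 * e))) →
        MvPolynomial (Idx k n d ⊕ Idx k n e) k := fun a => (A.submatrix a.1 a.2).det
    have hPhom : ∀ (K : Type u) [Field K] [Algebra k K] (a : _) (y : Idx k n d → K) (z : Idx k n e → K) (l : K),
        aeval (Sum.elim y z) (P a) = 0 → aeval (Sum.elim y (l • z)) (P a) = 0 := by
      intro K _ _ a y z l h0
      simp only [P, AlgHom.map_det] at h0 ⊢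
      have : (aeval (Sum.elim y (l • z))).mapMatrix (A.submatrix a.1 a.2) =
          (aeval (Sum.elim y z)).mapMatrix (A.submatrix a.1 a.2) *
            Matrix.diagonal (fun c => (a.2 c).elim 1 fun _ => l ^ 2) := by
        ext r c
        rw [Matrix.mul_diagonal]
        simp only [AlgHom.mapMatrix_apply, Matrix.map_apply, Matrix.submatrix_apply, A, sqMatrix]
        cases a.2 c with
        | none => simp
        | some j =>
          simp only [Option.elim_some, map_sum, map_mul, aeval_C, aeval_X, Sum.elim_inr, Pi.smul_apply,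
            smul_eq_mul, Finset.sum_mul]
          exact Finset.sum_congr rfl fun i _ => Finset.sum_congr rfl fun i' _ => by ring
      rw [this, Matrix.det_mul, h0, zero_mul]
    obtain ⟨Q, hQF, hQ⟩ := exists_poly_no_nontrivial_zero P hPhom ((formBasis k n d).repr F) fun z hz => by
      let G : LefPen.Form n k e := (formBasis k n e).equivFun.symm z
      have hGz : ⇑((formBasis k n e).repr G) = z := (formBasis k n e).equivFun.apply_symm_apply z
      have hG : G.1 ≠ 0 := fun h0 => hz (by
        rw [← hGz, show G = 0 from Subtype.ext h0, map_zero]; rfl)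
      set M := A.map (eval (Sum.elim ((formBasis k n d).repr F) z)) with hM
      have hinj : Function.Injective M.mulVecLin := by
        rw [← LinearMap.ker_eq_bot, LinearMap.ker_eq_bot']
        intro v hv
        let H : LefPen.Form n k (d - 2 * e) := (formBasis k n (d - 2 * e)).equivFun.symm fun j => v (some j)
        have hHv : ∀ j, (formBasis k n (d - 2 * e)).repr H j = v (some j) := fun j =>
          congrFun ((formBasis k n (d - 2 * e)).equivFun.apply_symm_apply _) j
        have hvv : v = fun o => o.elim (v none) fun j => (formBasis k n (d - 2 * e)).repr H j := by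
          funext o; cases o <;> simp [hHv]
        have hsum : v none • F.1 + G.1 * G.1 * H.1 = 0 := by
          refine (homogeneous_eq_zero_iff (d := d) ?_).2 fun r => ?_
          · refine IsHomogeneous.add ?_ ?_
            · exact Submodule.smul_mem (homogeneousSubmodule _ k d) _ F.2
            · have := (IsHomogeneous.mul (IsHomogeneous.mul G.2 G.2) H.2)
              rwa [show e + e + (d - 2 * e) = d by omega] at this
          · rw [← sqMatrix_mulVec hed F G (v none) H r, hGz, ← hvv]
            exact congrFun hv r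
        have hv0 : v none = 0 := by
          by_contra hc
          refine hsq e he hed G.1 (-(v none)⁻¹ • H.1) G.2 (Submodule.smul_mem (homogeneousSubmodule _ k _) _ H.2) ?_
          have : F.1 = (v none)⁻¹ • (v none • F.1) := by rw [inv_smul_smul₀ hc]
          rw [this, eq_neg_of_add_eq_zero_left hsum, mul_smul_comm, neg_smul, smul_neg]
        rw [hv0, zero_smul, zero_add] at hsum
        have hH : H.1 = 0 := (mul_eq_zero.1 hsum).resolve_left (mul_ne_zero hG hG)
        funext o
        cases o with
        | none => exact hv0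
        | some j => rw [← hHv j, show H = 0 from Subtype.ext hH, map_zero]; rfl
      have hrank : N ≤ M.rank := by
        rw [Matrix.rank, LinearMap.finrank_range_of_inj hinj, Module.finrank_fintype_fun_eq_card]
      obtain ⟨r, c, hd⟩ := exists_det_submatrix_ne_zero M hrank
      exact ⟨(r, c), by
        show eval _ (A.submatrix r c).det ≠ 0
        rw [RingHom.map_det]; exact hd⟩
    refine ⟨Q, hQF, fun F' hF' G H hG hH hG0 hFGH => ?_⟩
    let G' : LefPen.Form n k e := ⟨G, (mem_homogeneousSubmodule e G).2 hG⟩
    let H' : LefPen.Form n k (d - 2 * e) := ⟨H, (mem_homogeneousSubmodule _ H).2 hH⟩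
    obtain ⟨⟨r, c⟩, hd⟩ := hQ _ hF' ((formBasis k n e).repr G') fun h0 => hG0 (by
      have : G' = 0 := (formBasis k n e).repr.injective (by rw [map_zero]; exact Finsupp.ext (congrFun h0))
      exact congrArg Subtype.val this)
    refine hd ?_
    show eval _ (A.submatrix r c).det = 0
    rw [RingHom.map_det, RingHom.mapMatrix_apply]
    let v : Option (Idx k n (d - 2 * e)) → k :=
      fun o => o.elim (-1) fun j => (formBasis k n (d - 2 * e)).repr H' j
    have hv : ∀ r', ((A.map (eval (Sum.elim ((formBasis k n d).repr F') ((formBasis k n e).repr G')))).mulVec v) r' = 0 :=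
      fun r' => by
        rw [sqMatrix_mulVec hed F' G' (-1) H' r']
        rw [show (-1 : k) • F'.1 + G'.1 * G'.1 * H'.1 = 0 by rw [hFGH]; simp [G', H']]
        simp
    refine Matrix.exists_mulVec_eq_zero_iff.1 ⟨fun b => v (c b), fun h0 => ?_, ?_⟩
    · have hc : Function.Surjective c :=
        ((Fintype.bijective_iff_injective_and_card c).2 ⟨c.injective, by simp [N]⟩).2
      obtain ⟨b, hb⟩ := hc none
      have := congrFun h0 b
      simp [hb, v] at this
    · funext a
      have hc : Function.Bijective c :=
        (Fintype.bijective_iff_injective_and_card c).2 ⟨c.injective, by simp [N]⟩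
      have := hv (r a)
      simp only [Matrix.mulVec, dotProduct, Matrix.map_apply, Matrix.submatrix_apply, Pi.zero_apply] at this ⊢
      rw [← this]
      exact hc.sum_comp fun o => eval (Sum.elim ((formBasis k n d).repr F') ((formBasis k n e).repr G'))
        (A (r a) o) * v o
  choose Q hQF hQ using key
  refine ⟨X i₀ * ∏ e : Fin (d + 1), if h : 1 ≤ e.1 ∧ 2 * e.1 ≤ d then Q e h.1 h.2 else 1, ?_, fun F' hF' => ?_⟩
  · rw [map_mul, eval_X, map_prod]
    refine mul_ne_zero hi₀ (Finset.prod_ne_zero_iff.2 fun e _ => ?_)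
    split_ifs with h
    · exact hQF e h.1 h.2
    · simp
  · rw [map_mul, eval_X, map_prod, mul_ne_zero_iff, Finset.prod_ne_zero_iff] at hF'
    have hF'0 : F'.1 ≠ 0 := fun h0 => hF'.1 (by rw [show F' = 0 from Subtype.ext h0, map_zero]; rfl)
    rw [squarefree_iff_forms F'.2 hF'0]
    intro e he hed G H hG hH hGH
    have := hF'.2 ⟨e, by omega⟩ (Finset.mem_univ _)
    rw [dif_pos ⟨he, hed⟩] at this
    exact hQ ⟨e, by omega⟩ he hed F' this G H hG hH (fun h0 => hF'0 (by rw [hGH, h0]; simp)) hGH

end Open

end Groth.Agent.LefGeo
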